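import Groth.Prelude.Def_EssEt
import Groth.Agent.BranchLib.NormRedFin
import Groth.Agent.SemilocalNormLib.Main
import Mathlib

/-! Total rings of fractions of essentially etale local algebras over reduced local rings. -/

set_option autoImplicit false

universe u

open IsLocalRing
open scoped nonZeroDivisors

noncomputable section

namespace EssEtFracLib

variable {A E : Type u} [CommRing A] [IsLocalRing A] [CommRing E] [Algebra A E]

theorem flat_of_essEt (hE : EGA4loc.IsEssentiallyEtale A E) : Module.Flat A E := by
  obtain ⟨C, _, _, q, _, hC, -, ⟨e⟩⟩ := hE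
  have : Module.Flat A C := inferInstance
  have : Module.Flat A (Localization.AtPrime q) := Module.Flat.trans A C _
  exact Module.Flat.of_linearEquiv e.toLinearEquiv

theorem quasiFinite_of_essEt (hE : EGA4loc.IsEssentiallyEtale A E) : Algebra.QuasiFinite A E := by
  obtain ⟨C, _, _, q, _, hC, -, ⟨e⟩⟩ := hE
  have : Algebra.QuasiFinite A C := inferInstance
  have : Algebra.QuasiFinite A (Localization.AtPrime q) :=
    Algebra.QuasiFinite.of_isLocalization q.primeCompl
  exact (Algebra.QuasiFinite.iff_of_algEquiv e).2 this

theorem essFiniteType_of_essEt (hE : EGA4loc.IsEssentiallyEtale A E) : Algebra.EssFiniteType A E := by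
  obtain ⟨C, _, _, q, _, hC, -, ⟨e⟩⟩ := hE
  have : Algebra.EssFiniteType A C := inferInstance
  have : Algebra.EssFiniteType C (Localization.AtPrime q) :=
    Algebra.EssFiniteType.of_isLocalization _ q.primeCompl
  have : Algebra.EssFiniteType A (Localization.AtPrime q) := Algebra.EssFiniteType.comp A C _
  exact Algebra.EssFiniteType.of_surjective e.symm.toAlgHom e.symm.surjective

theorem map_nzd_le (hE : EGA4loc.IsEssentiallyEtale A E) : A⁰.map (algebraMap A E) ≤ E⁰ := by
  have := flat_of_essEt hE
  rintro _ ⟨a, ha, rfl⟩
  rw [mem_nonZeroDivisors_iff_right]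
  intro x hx
  have hr : IsSMulRegular A a := fun x y h => by
    have h' : (x - y) * a = 0 := by
      simp only [smul_eq_mul] at h
      rw [sub_mul, mul_comm x, mul_comm y, h, sub_self]
    exact sub_eq_zero.1 ((mem_nonZeroDivisors_iff_right.1 ha) _ h')
  apply (hr.of_flat (S := E))
  simpa [Algebra.smul_def, mul_comm] using hx

/-- The map of total rings of fractions. -/
theorem exists_fractionMap (hE : EGA4loc.IsEssentiallyEtale A E) (s : A) (hs : s ∈ A⁰) :
    IsUnit (algebraMap A (FractionRing E) s) := by
  rw [IsScalarTower.algebraMap_apply A E (FractionRing E)]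
  exact IsLocalization.map_units (FractionRing E)
    (⟨_, map_nzd_le hE ⟨s, hs, rfl⟩⟩ : E⁰)

/-- `K_A → K_E` as an algebra structure. -/
abbrev fracAlgebra (hE : EGA4loc.IsEssentiallyEtale A E) :
    Algebra (FractionRing A) (FractionRing E) :=
  (IsLocalization.lift (S := FractionRing A) (g := algebraMap A (FractionRing E))
    fun s => exists_fractionMap hE s.1 s.2).toAlgebra

theorem fracTower (hE : EGA4loc.IsEssentiallyEtale A E) :
    letI := fracAlgebra hE
    IsScalarTower A (FractionRing A) (FractionRing E) :=
  letI := fracAlgebra hE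
  IsScalarTower.of_algebraMap_eq fun _ => (IsLocalization.lift_eq _ _).symm

theorem main_frac [IsReduced A] (hmin : (minimalPrimes A).Finite)
    (hE : EGA4loc.IsEssentiallyEtale A E) :
    IsLocalization (A⁰.map (algebraMap A E)) (FractionRing E) ∧ IsArtinianRing (FractionRing E) ∧
      (letI := fracAlgebra hE; Module.Finite (FractionRing A) (FractionRing E)) := by
  have := (BranchLib.fractionRing_data A hmin).1
  have := quasiFinite_of_essEt hE
  let M := A⁰.map (algebraMap A E)
  let F := Localization M
  have hu : ∀ s : A⁰, IsUnit (algebraMap A F s) := fun s => by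
    rw [IsScalarTower.algebraMap_apply A E F]
    exact IsLocalization.map_units F (⟨_, ⟨s.1, s.2, rfl⟩⟩ : M)
  let : Algebra (FractionRing A) F :=
    (IsLocalization.lift (S := FractionRing A) (g := algebraMap A F) hu).toAlgebra
  have : IsScalarTower A (FractionRing A) F :=
    IsScalarTower.of_algebraMap_eq fun _ => (IsLocalization.lift_eq _ _).symm
  have : Algebra.QuasiFinite A F := inferInstance
  have : Algebra.QuasiFinite (FractionRing A) F := Algebra.QuasiFinite.of_restrictScalars A _ _
  have hfin : Module.Finite (FractionRing A) F := Module.Finite.of_quasiFinite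
  have : IsArtinianRing F := IsArtinianRing.of_finite (FractionRing A) F
  have hunit : ∀ e ∈ E⁰, IsUnit (algebraMap E F e) := fun e he =>
    IsArtinianRing.isUnit_of_mem_nonZeroDivisors
      (IsLocalization.map_nonZeroDivisors_le M F ⟨e, he, rfl⟩)
  have : IsLocalization E⁰ F := IsLocalization.of_le M E⁰ (map_nzd_le hE) hunit
  let e : F ≃ₐ[E] FractionRing E := IsLocalization.algEquiv E⁰ F (FractionRing E)
  refine ⟨IsLocalization.isLocalization_of_algEquiv M e, e.toRingEquiv.isArtinianRing, ?_⟩
  let := fracAlgebra hE
  have := fracTower hE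
  let f : F →ₐ[FractionRing A] FractionRing E :=
    { (e : F →+* FractionRing E) with
      commutes' := DFunLike.congr_fun (IsLocalization.ringHom_ext A⁰ (RingHom.ext fun a => by
        change e (algebraMap (FractionRing A) F (algebraMap A (FractionRing A) a)) =
          algebraMap (FractionRing A) (FractionRing E) (algebraMap A (FractionRing A) a)
        rw [← IsScalarTower.algebraMap_apply, ← IsScalarTower.algebraMap_apply]
        exact (e.restrictScalars A).commutes a) :
        (e : F →+* FractionRing E).comp (algebraMap (FractionRing A) F) =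
          algebraMap (FractionRing A) (FractionRing E)) }
  exact Module.Finite.of_surjective f.toLinearMap fun y => ⟨e.symm y, e.apply_symm_apply y⟩

theorem exists_smul_mem_span [IsReduced A] (hmin : (minimalPrimes A).Finite)
    (hE : EGA4loc.IsEssentiallyEtale A E) :
    ∃ t : Finset (FractionRing E), ∀ x : FractionRing E, ∃ a ∈ A⁰,
      algebraMap A (FractionRing E) a * x ∈ Submodule.span A (t : Set (FractionRing E)) := by
  classical
  let := fracAlgebra hE
  have := fracTower hE
  have := (main_frac hmin hE).2.2
  obtain ⟨t, ht⟩ := Module.Finite.fg_top (R := FractionRing A) (M := FractionRing E)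
  refine ⟨t, fun x => ?_⟩
  have hx : x ∈ Submodule.span (FractionRing A) (t : Set (FractionRing E)) := ht ▸ Submodule.mem_top
  obtain ⟨c, -, rfl⟩ := Submodule.mem_span_finset.1 hx
  obtain ⟨s, hs⟩ := IsLocalization.exist_integer_multiples A⁰ t c
  refine ⟨s, s.2, ?_⟩
  rw [← Algebra.smul_def, Finset.smul_sum]
  refine Submodule.sum_mem _ fun i hi => ?_
  obtain ⟨a, ha⟩ := hs i hi
  rw [← smul_assoc, ← ha, IsScalarTower.algebraMap_smul]
  exact Submodule.smul_mem _ _ (Submodule.subset_span hi)

end EssEtFracLib
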